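import Cfsg.Agent.H6.Th.M.D0

set_option autoImplicit false
set_option maxRecDepth 100000
set_option Elab.async false

namespace Cfsg.H6.Th.M

theorem d29 : Nat.beq (trF (P.img P.d code) [5,5,5,8,1,4,1,2,7,3,2,7,1,3,8,2,3,4,8] (code 5)) (code 29) = true := by
  decide +kernel

theorem d30 : Nat.beq (trF (P.img P.d code) [30] (code 29)) P.one = true := by
  decide +kernel

theorem d31 : Nat.beq (trF (P.img P.d code) [2,7,3,2,3,9,6,2,1,4,1,1,2,1,9,3,1,4,8] (code 8)) (code 31) = true := by
  decide +kernel

theorem d32 : Nat.beq (trF (P.img P.d code) [32] (code 31)) P.one = true := by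
  decide +kernel

theorem d33 : Nat.beq (trF (P.img P.d code) [7,7,30,30,30,32,7,30,7,31,31] (code 30)) (code 33) = true := by
  decide +kernel

theorem d34 : Nat.beq (trF (P.img P.d code) [7,10,6,6] (code 7)) (code 34) = true := by
  decide +kernel

theorem d35 : Nat.beq (trF (P.img P.d code) [35] (code 34)) P.one = true := by
  decide +kernel

theorem d36 : Nat.beq (trF (P.img P.d code) [3,4] (code 4)) (code 36) = true := by
  decide +kernel

theorem d37 : Nat.beq (trF (P.img P.d code) [37] (code 36)) P.one = true := by
  decide +kernel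

theorem d38 : Nat.beq (trF (P.img P.d code) [8,37,5,1,11,36,11,9,3,3,8] (code 35)) (code 38) = true := by
  decide +kernel


end Cfsg.H6.Th.M
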