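import Cfsg.Agent.H6.Th.M.D0

set_option autoImplicit false
set_option maxRecDepth 100000
set_option Elab.async false

namespace Cfsg.H6.Th.M

theorem d89 : Nat.beq (trF (P.img P.d code) [1,5,6,4,5,3,2,4,4,2,8,8,4,3,1,7,4,1,3,8,7,7,2,7,2,8,6,8,4] (code 4)) (code 89) = true := by
  decide +kernel

theorem d90 : Nat.beq (trF (P.img P.d code) [5,2,1,2,4,1,4,3,11,3,11,2,7,4,3,10,10,1,2,1,4,3,1,8,6,8,1,5,9] (code 89)) (code 90) = true := by
  decide +kernel

theorem d91 : Nat.beq (trF (P.img P.d code) [6,3,7,4,7,5,4,2,4,5,2,9,5,8,2,5,4,3,4,1,2,8,1] (code 90)) (code 91) = true := by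
  decide +kernel

theorem d92 : Nat.beq (trF (P.img P.d code) [92] (code 91)) P.one = true := by
  decide +kernel

theorem d93 : Nat.beq (trF (P.img P.d code) [93] (code 84)) P.one = true := by
  decide +kernel

theorem d94 : Nat.beq (trF (P.img P.d code) [4] (code 5)) (code 94) = true := by
  decide +kernel


end Cfsg.H6.Th.M
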