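import Cfsg.Agent.H6.Th.M.D0

set_option autoImplicit false
set_option maxRecDepth 100000
set_option Elab.async false

namespace Cfsg.H6.Th.M

theorem d95 : Nat.beq (trF (P.img P.d code) [95] (code 94)) P.one = true := by
  decide +kernel

theorem d96 : Nat.beq (trF (P.img P.d code) [84,84,88,81,91,87,92,93,95,84,84] (code 81)) (code 96) = true := by
  decide +kernel

theorem d97 : Nat.beq (trF (P.img P.d code) [97] (code 81)) P.one = true := by
  decide +kernel

theorem d98 : Nat.beq (trF (P.img P.d code) [4,6,11,5,8,5,3,5,5,3,6,3,7,4,10,1,8,11,5,3,4,1,1,11,9,11,11] (code 6)) (code 98) = true := by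
  decide +kernel

theorem d99 : Nat.beq (trF (P.img P.d code) [99] (code 98)) P.one = true := by
  decide +kernel

theorem d100 : Nat.beq (trF (P.img P.d code) [97,91,94,97,97,91,94,99,88,99,81] (code 97)) (code 100) = true := by
  decide +kernel

theorem d101 : Nat.beq (trF (P.img P.d code) [87,97,98,92,93,93,97,93,92,94,88] (code 92)) (code 101) = true := by
  decide +kernel

theorem r0 : Nat.beq (trF (P.img P.d code) [21,21] (code 21)) P.one = true := by
  decide +kernel

theorem r1 : Nat.beq (trF (P.img P.d code) [5,1,5] (code 1)) P.one = true := by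
  decide +kernel

theorem r2 : Nat.beq (trF (P.img P.d code) [22,22] (code 22)) P.one = true := by
  decide +kernel


end Cfsg.H6.Th.M
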