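import Cfsg.Agent.H6.Th.M.D0

set_option autoImplicit false
set_option maxRecDepth 100000
set_option Elab.async false

namespace Cfsg.H6.Th.M

theorem r3 : Nat.beq (trF (P.img P.d code) [4,2,4] (code 2)) P.one = true := by
  decide +kernel

theorem r4 : Nat.beq (trF (P.img P.d code) [5,2,5] (code 2)) P.one = true := by
  decide +kernel

theorem r5 : Nat.beq (trF (P.img P.d code) [4,3,4,3,4,3,4,3] (code 1)) P.one = true := by
  decide +kernel

theorem r6 : Nat.beq (trF (P.img P.d code) [5,3,5] (code 3)) P.one = true := by
  decide +kernel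

theorem r7 : Nat.beq (trF (P.img P.d code) [23,23] (code 23)) P.one = true := by
  decide +kernel

theorem r8 : Nat.beq (trF (P.img P.d code) [24,24,24,24,24,24,24] (code 24)) P.one = true := by
  decide +kernel

theorem r9 : Nat.beq (trF (P.img P.d code) [6,6,6,6,6,6] (code 6)) P.one = true := by
  decide +kernel

theorem r10 : Nat.beq (trF (P.img P.d code) [1,6,1] (code 7)) P.one = true := by
  decide +kernel

theorem r11 : Nat.beq (trF (P.img P.d code) [2,6,2] (code 7)) P.one = true := by
  decide +kernel

theorem r12 : Nat.beq (trF (P.img P.d code) [3,6,3] (code 7)) P.one = true := by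
  decide +kernel

theorem r13 : Nat.beq (trF (P.img P.d code) [4,6,4] (code 6)) P.one = true := by
  decide +kernel

theorem r14 : Nat.beq (trF (P.img P.d code) [7,5,7,7,5,6,6,6] (code 5)) P.one = true := by
  decide +kernel

theorem r15 : Nat.beq (trF (P.img P.d code) [8,8] (code 8)) P.one = true := by
  decide +kernel

theorem r16 : Nat.beq (trF (P.img P.d code) [1,8,1] (code 9)) P.one = true := by
  decide +kernel


end Cfsg.H6.Th.M
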