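import Cfsg.Agent.H6.Th.M.D0

set_option autoImplicit false
set_option maxRecDepth 100000
set_option Elab.async false

namespace Cfsg.H6.Th.M

theorem r17 : Nat.beq (trF (P.img P.d code) [2,8,2] (code 9)) P.one = true := by
  decide +kernel

theorem r18 : Nat.beq (trF (P.img P.d code) [3,8,3] (code 9)) P.one = true := by
  decide +kernel

theorem r19 : Nat.beq (trF (P.img P.d code) [4,8,4] (code 9)) P.one = true := by
  decide +kernel

theorem r20 : Nat.beq (trF (P.img P.d code) [5,8,5] (code 9)) P.one = true := by
  decide +kernel

theorem r21 : Nat.beq (trF (P.img P.d code) [6,8,7,7] (code 9)) P.one = true := by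
  decide +kernel

theorem r22 : Nat.beq (trF (P.img P.d code) [10,3,1] (code 10)) P.one = true := by
  decide +kernel

theorem r23 : Nat.beq (trF (P.img P.d code) [1,10,1] (code 11)) P.one = true := by
  decide +kernel

theorem r24 : Nat.beq (trF (P.img P.d code) [3,10,3] (code 11)) P.one = true := by
  decide +kernel

theorem r25 : Nat.beq (trF (P.img P.d code) [5,10,5] (code 11)) P.one = true := by
  decide +kernel

theorem r26 : Nat.beq (trF (P.img P.d code) [25] (code 25)) P.one = true := by
  decide +kernel

theorem r27 : Nat.beq (trF (P.img P.d code) [2,3,1,2,10,2,1,3,2,5] (code 11)) P.one = true := by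
  decide +kernel

theorem r28 : Nat.beq (trF (P.img P.d code) [11,4,2,3,1,2,4,10,4,2,1,3,2,3,5,4,11,4,2,3,1,2,5,11] (code 4)) P.one = true := by
  decide +kernel


end Cfsg.H6.Th.M
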