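import Cfsg.Agent.H6.Th.M.D0

set_option autoImplicit false
set_option maxRecDepth 100000
set_option Elab.async false

namespace Cfsg.H6.Th.M

theorem r29 : Nat.beq (trF (P.img P.d code) [8,10,8] (code 11)) P.one = true := by
  decide +kernel

theorem r30 : Nat.beq (trF (P.img P.d code) [7,7,11,6,6,5,7,7,10,6,6] (code 5)) P.one = true := by
  decide +kernel

theorem r31 : Nat.beq (trF (P.img P.d code) [3,7,11,7,11,7,11] (code 1)) P.one = true := by
  decide +kernel

theorem r32 : Nat.beq (trF (P.img P.d code) [3,7,11,6,10,7,11,6,10,7,11,6,10,7,11,6,10] (code 1)) P.one = true := by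
  decide +kernel

theorem r33 : Nat.beq (trF (P.img P.d code) [7,7,10,6,6,4,7,7,10,6,6,4,7,7,10,6,6,4,7,7,10,5,4,3,4,5,6,6,6,5,4,3,4,5,7,4,3,4,3,1] (code 4)) P.one = true := by
  decide +kernel

theorem r34 : Nat.beq (trF (P.img P.d code) [1] (code 1)) P.one = true := by
  decide +kernel

theorem r35 : Nat.beq (trF (P.img P.d code) [2] (code 2)) P.one = true := by
  decide +kernel


end Cfsg.H6.Th.M
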