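import Cfsg.Agent.H6.Th.M.D0

set_option autoImplicit false
set_option maxRecDepth 100000
set_option Elab.async false

namespace Cfsg.H6.Th.M

theorem r36 : Nat.beq (trF (P.img P.d code) [3] (code 3)) P.one = true := by
  decide +kernel

theorem r37 : Nat.beq (trF (P.img P.d code) [4] (code 4)) P.one = true := by
  decide +kernel

theorem r38 : Nat.beq (trF (P.img P.d code) [5] (code 5)) P.one = true := by
  decide +kernel

theorem r39 : Nat.beq (trF (P.img P.d code) [7] (code 6)) P.one = true := by
  decide +kernel

theorem r40 : Nat.beq (trF (P.img P.d code) [9] (code 8)) P.one = true := by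
  decide +kernel

theorem r41 : Nat.beq (trF (P.img P.d code) [11] (code 10)) P.one = true := by
  decide +kernel

theorem px : Nat.beq (trF (P.img P.d code) [12,12,12,12,12,12,12,12,12,12,12,12,12,12,12,12,12,12,12,12,12,12,12,12,12,12,12,12,12,12] (code 12)) P.one = true := by
  decide +kernel

theorem pa0 : Nat.beq (trF (P.img P.d code) [13,13,13,13,13,13,13,13,13,13,13,13,13,13,13,13,13,13] (code 13)) P.one = true := by
  decide +kernel

theorem pb0 : Nat.beq (trF (P.img P.d code) [3] (code 3)) P.one = true := by
  decide +kernel

theorem pa1 : Nat.beq (trF (P.img P.d code) [14,14] (code 14)) P.one = true := by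
  decide +kernel

theorem pb1 : Nat.beq (trF (P.img P.d code) [2] (code 2)) P.one = true := by
  decide +kernel

theorem pa2 : Nat.beq (trF (P.img P.d code) [15,15] (code 15)) P.one = true := by
  decide +kernel

theorem pb2 : Nat.beq (trF (P.img P.d code) [1] (code 1)) P.one = true := by
  decide +kernel


end Cfsg.H6.Th.M
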