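import Cfsg.Agent.H6.Th.M.D0

set_option autoImplicit false
set_option maxRecDepth 100000
set_option Elab.async false

namespace Cfsg.H6.Th.M

theorem pa3 : Nat.beq (trF (P.img P.d code) [16,16,16,16,16,16,16,16,16,16,16,16,16,16,16,16,16,16] (code 16)) P.one = true := by
  decide +kernel

theorem pb3 : Nat.beq (trF (P.img P.d code) [8,8] (code 8)) P.one = true := by
  decide +kernel

theorem pa4 : Nat.beq (trF (P.img P.d code) [17,17] (code 17)) P.one = true := by
  decide +kernel

theorem pb4 : Nat.beq (trF (P.img P.d code) [6,6,6,6,6,6] (code 6)) P.one = true := by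
  decide +kernel

theorem pa5 : Nat.beq (trF (P.img P.d code) [18,18,18,18,18,18] (code 18)) P.one = true := by
  decide +kernel

theorem pb5 : Nat.beq (trF (P.img P.d code) [5] (code 5)) P.one = true := by
  decide +kernel

theorem pa6 : Nat.beq (trF (P.img P.d code) [19,19] (code 19)) P.one = true := by
  decide +kernel

theorem pb6 : Nat.beq (trF (P.img P.d code) [4] (code 4)) P.one = true := by
  decide +kernel

theorem pa7 : Nat.beq (trF (P.img P.d code) [20,20,20,20,20,20,20,20,20,20,20,20,20,20,20,20,20,20] (code 20)) P.one = true := by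
  decide +kernel

theorem pb7 : Nat.beq (trF (P.img P.d code) [10,10,10] (code 10)) P.one = true := by
  decide +kernel

theorem l13_0 : allR (P.lab1 1 code (nthN [0,27]) g13 tab13 13 2) 0 13 = true := by
  decide +kernel

theorem v13_0 : dvChk tab13 13 2 4 [[1]] [] [0,1,2,3,4,5,6,7,8,9,10,11,12] (unp 12 (nat_lit 0xa0000000900000001000000050000000b000000060000000c000000000000000700000008000000020000000400)) = true := by
  decide +kernel


theorem l19_0 : allR (P.lab1 1 code (nthN [0,28]) g19 tab19 19 2) 0 19 = true := by
  decide +kernel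


end Cfsg.H6.Th.M
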