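import Cfsg.Agent.H6.Th.M.D0

set_option autoImplicit false
set_option maxRecDepth 100000
set_option Elab.async false

namespace Cfsg.H6.Th.M

theorem v19_0 : dvChk tab19 19 2 4 [[1]] [] [0,1,2,3,4,5,6,7,8,9,10,11,12,13,14,15,16,17,18] (unp 18 (nat_lit 0x2000000120000000d00000010000000080000000f0000000e0000000700000000000000110000000c0000000b00000003000000090000000a00000001000000050000000400)) = true := by
  decide +kernel


theorem l31_0 : allR (P.lab1 1 code (nthN [0,12]) g31 tab31 31 2) 0 31 = true := by
  decide +kernel

theorem v31_0 : dvChk tab31 31 2 18 [[1]] [] [0,1,2,3,4,5,6,7,8,9,10,11,12,13,14,15,16,17,18,19,20,21,22,23,24,25,26,27,28,29,30] (unp 30 (nat_lit 0x14000000170000001d000000160000000c0000000f0000000200000006000000130000000800000007000000050000001e0000000e0000001b000000100000000a0000001a0000000b000000110000000d00000015000000010000001c00000009000000190000000400000000000000180000001200)) = true := by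
  decide +kernel


theorem l7_0 : allR (P.lab1 1 code (nthN [0,6,33]) g7 tab7 14 3) 0 14 = true := by
  decide +kernel

theorem v7_1 : dvChk tab7 14 3 0 [[1,1,2]] [] [0,1,2,5,9,11,12] (unp 6 (nat_lit 0x5000000020000000b000000090000000c0000000000)) = true := by
  decide +kernel

theorem v7_0 : dvChk tab7 14 3 7 [[1]] [[1,1,2]] [3,4,6,7,8,10,13] (unp 6 (nat_lit 0x30000000d000000060000000a000000040000000700)) = true := by
  decide +kernel


theorem l2_0 : allR (P.lab1 1 code (nthN [0,38,41,42,43]) g2 tab2 684 5) 0 100 = true := by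
  decide +kernel

theorem l2_1 : allR (P.lab1 1 code (nthN [0,38,41,42,43]) g2 tab2 684 5) 100 100 = true := by
  decide +kernel

theorem l2_2 : allR (P.lab1 1 code (nthN [0,38,41,42,43]) g2 tab2 684 5) 200 100 = true := by
  decide +kernel

theorem l2_3 : allR (P.lab1 1 code (nthN [0,38,41,42,43]) g2 tab2 684 5) 300 100 = true := by
  decide +kernel

theorem l2_4 : allR (P.lab1 1 code (nthN [0,38,41,42,43]) g2 tab2 684 5) 400 100 = true := by
  decide +kernel


end Cfsg.H6.Th.M
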