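import Cfsg.Agent.H6.Th.M.D0

set_option autoImplicit false
set_option maxRecDepth 100000
set_option Elab.async false

namespace Cfsg.H6.Th.M

theorem l2_5 : allR (P.lab1 1 code (nthN [0,38,41,42,43]) g2 tab2 684 5) 500 100 = true := by
  decide +kernel

theorem l2_6 : allR (P.lab1 1 code (nthN [0,38,41,42,43]) g2 tab2 684 5) 600 84 = true := by
  decide +kernel

theorem v2_12 : dvChk tab2 684 5 289 [[2,3,4,4,2,4,4,3]] [] [248,289] (unp 1 (nat_lit 0x12100)) = true := by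
  decide +kernel

theorem v2_11 : dvChk tab2 684 5 361 [[1,1,1,1]] [[2,3,4,4,2,4,4,3]] [25,361] (unp 1 (nat_lit 0x16900)) = true := by
  decide +kernel

theorem v2_10 : dvChk tab2 684 5 297 [[3,4,3,4]] [[1,1,1,1], [2,3,4,4,2,4,4,3]] [257,297] (unp 1 (nat_lit 0x12900)) = true := by
  decide +kernel

theorem v2_9 : dvChk tab2 684 5 183 [[3,3]] [[3,4,3,4], [1,1,1,1], [2,3,4,4,2,4,4,3]] [183,636] (unp 1 (nat_lit 0xb700)) = true := by
  decide +kernel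

theorem v2_8 : dvChk tab2 684 5 241 [[4,4,4,4]] [[3,3], [3,4,3,4], [1,1,1,1], [2,3,4,4,2,4,4,3]] [241,657] (unp 1 (nat_lit 0xf100)) = true := by
  decide +kernel

theorem v2_7 : dvChk tab2 684 5 187 [[1,2,1,2]] [[4,4,4,4], [3,3], [3,4,3,4], [1,1,1,1], [2,3,4,4,2,4,4,3]] [187,188] (unp 1 (nat_lit 0xbb00)) = true := by
  decide +kernel

theorem v2_6 : dvChk tab2 684 5 285 [[1,1,3,1,1,3]] [[1,2,1,2], [4,4,4,4], [3,3], [3,4,3,4], [1,1,1,1], [2,3,4,4,2,4,4,3]] [283,285] (unp 1 (nat_lit 0x11d00)) = true := by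
  decide +kernel

theorem v2_5 : dvChk tab2 684 5 454 [[4,4], [1,4,1,4]] [[1,1,3,1,1,3], [1,2,1,2], [4,4,4,4], [3,3], [3,4,3,4], [1,1,1,1], [2,3,4,4,2,4,4,3]] [454,455,500,501] (unp 3 (nat_lit 0x1c7000001c6010001c600)) = true := by
  decide +kernel

theorem v2_4 : dvChk tab2 684 5 512 [[1,1]] [[4,4], [1,4,1,4], [1,1,3,1,1,3], [1,2,1,2], [4,4,4,4], [3,3], [3,4,3,4], [1,1,1,1], [2,3,4,4,2,4,4,3]] [0,512] (unp 1 (nat_lit 0x20000)) = true := by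
  decide +kernel

theorem v2_3 : dvChk tab2 684 5 62 [[1,2,3,4]] [[1,1], [4,4], [1,4,1,4], [1,1,3,1,1,3], [1,2,1,2], [4,4,4,4], [3,3], [3,4,3,4], [1,1,1,1], [2,3,4,4,2,4,4,3]] [62,492] (unp 1 (nat_lit 0x3e00)) = true := by
  decide +kernel

theorem v2_2 : dvChk tab2 684 5 290 [[4]] [[1,2,3,4], [1,1], [4,4], [1,4,1,4], [1,1,3,1,1,3], [1,2,1,2], [4,4,4,4], [3,3], [3,4,3,4], [1,1,1,1], [2,3,4,4,2,4,4,3]] [290,291] (unp 1 (nat_lit 0x12200)) = true := by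
  decide +kernel

theorem v2_1 : dvChk tab2 684 5 307 [[1]] [[4], [1,2,3,4], [1,1], [4,4], [1,4,1,4], [1,1,3,1,1,3], [1,2,1,2], [4,4,4,4], [3,3], [3,4,3,4], [1,1,1,1], [2,3,4,4,2,4,4,3]] [306,307] (unp 1 (nat_lit 0x13300)) = true := by
  decide +kernel

theorem v2_0 : dvChk tab2 684 5 270 [[2]] [[1], [4], [1,2,3,4], [1,1], [4,4], [1,4,1,4], [1,1,3,1,1,3], [1,2,1,2], [4,4,4,4], [3,3], [3,4,3,4], [1,1,1,1], [2,3,4,4,2,4,4,3]] [270,271,306,307] (unp 3 (nat_lit 0x10f000001330000010e00)) = true := by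
  decide +kernel


theorem l5_0 : allR (P.lab1 1 code (nthN [0,76,78]) g5 tab5 35 3) 0 35 = true := by
  decide +kernel

theorem v5_2 : dvChk tab5 35 3 0 [[1,1,1,1,2,1,2,2,2,2]] [] [0,10,17,27,30] (unp 4 (nat_lit 0x110000001b0000001e0000000000)) = true := by
  decide +kernel

theorem v5_1 : dvChk tab5 35 3 24 [[1,1,1,1,2]] [[1,1,1,1,2,1,2,2,2,2]] [3,13,15,24,29] (unp 4 (nat_lit 0x30000000f0000001d0000001800)) = true := by
  decide +kernel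

theorem v5_0 : dvChk tab5 35 3 5 [[1]] [[1,1,1,1,2], [1,1,1,1,2,1,2,2,2,2]] [2,5,18,20,22] (unp 4 (nat_lit 0x200000014000000120000000500)) = true := by
  decide +kernel


theorem l3_0 : allR (P.lab1 1 code (nthN [0,96,100,101]) g3 tab3 291 4) 0 133 = true := by
  decide +kernel

theorem l3_1 : allR (P.lab1 1 code (nthN [0,96,100,101]) g3 tab3 291 4) 133 133 = true := by
  decide +kernel

theorem l3_2 : allR (P.lab1 1 code (nthN [0,96,100,101]) g3 tab3 291 4) 266 25 = true := by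
  decide +kernel

theorem v3_8 : dvChk tab3 291 4 252 [[1,1,2,3,2,3,3,2,1,3,3,3]] [] [64,67,252] (unp 2 (nat_lit 0x40000000fc00)) = true := by
  decide +kernel

theorem v3_7 : dvChk tab3 291 4 225 [[2,2,2]] [[1,1,2,3,2,3,3,2,1,3,3,3]] [58,109,225] (unp 2 (nat_lit 0x3a000000e100)) = true := by
  decide +kernel

theorem v3_6 : dvChk tab3 291 4 169 [[3,2,3,2,2,3]] [[2,2,2], [1,1,2,3,2,3,3,2,1,3,3,3]] [130,169,257] (unp 2 (nat_lit 0x82000000a900)) = true := by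
  decide +kernel

theorem v3_5 : dvChk tab3 291 4 181 [[2,2,3,3,2,3]] [[3,2,3,2,2,3], [2,2,2], [1,1,2,3,2,3,3,2,1,3,3,3]] [133,181,231] (unp 2 (nat_lit 0xe7000000b500)) = true := by
  decide +kernel

theorem v3_4 : dvChk tab3 291 4 104 [[1,1,2,1,2,2]] [[2,2,3,3,2,3], [3,2,3,2,2,3], [2,2,2], [1,1,2,3,2,3,3,2,1,3,3,3]] [104,148,268] (unp 2 (nat_lit 0x10c0000006800)) = true := by
  decide +kernel

theorem v3_3 : dvChk tab3 291 4 11 [[1,1,3,3,1,1,3]] [[1,1,2,1,2,2], [2,2,3,3,2,3], [3,2,3,2,2,3], [2,2,2], [1,1,2,3,2,3,3,2,1,3,3,3]] [11,249,259] (unp 2 (nat_lit 0x1030000000b00)) = true := by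
  decide +kernel

theorem v3_2 : dvChk tab3 291 4 114 [[1,1,3,3,3]] [[1,1,3,3,1,1,3], [1,1,2,1,2,2], [2,2,3,3,2,3], [3,2,3,2,2,3], [2,2,2], [1,1,2,3,2,3,3,2,1,3,3,3]] [56,73,114] (unp 2 (nat_lit 0x490000007200)) = true := by
  decide +kernel

theorem v3_1 : dvChk tab3 291 4 170 [[1], [2,3]] [[1,1,3,3,3], [1,1,3,3,1,1,3], [1,1,2,1,2,2], [2,2,3,3,2,3], [3,2,3,2,2,3], [2,2,2], [1,1,2,3,2,3,3,2,1,3,3,3]] [11,43,56,73,114,170,185,249,259] (unp 8 (nat_lit 0x72010000b901000049010000aa010000380100002b0100002b000000aa00)) = true := by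
  decide +kernel

theorem v3_0 : dvChk tab3 291 4 272 [[2]] [[1], [2,3], [1,1,3,3,3], [1,1,3,3,1,1,3], [1,1,2,1,2,2], [2,2,3,3,2,3], [3,2,3,2,2,3], [2,2,2], [1,1,2,3,2,3,3,2,1,3,3,3]] [50,219,272] (unp 2 (nat_lit 0xdb0000011000)) = true := by
  decide +kernel



end Cfsg.H6.Th.M
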