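import Cfsg.Agent.H6.Th.M.D0

set_option autoImplicit false
set_option maxRecDepth 100000
set_option Elab.async false

namespace Cfsg.H6.Th.M

theorem d39 : Nat.beq (trF (P.img P.d code) [6,5,7,7] (code 6)) (code 39) = true := by
  decide +kernel

theorem d40 : Nat.beq (trF (P.img P.d code) [40] (code 39)) P.one = true := by
  decide +kernel

theorem d41 : Nat.beq (trF (P.img P.d code) [37,35,37,1,40,35,1,1,11] (code 8)) (code 41) = true := by
  decide +kernel

theorem d42 : Nat.beq (trF (P.img P.d code) [5,39,39,5,3,35,3,37,34,1,39] (code 36)) (code 42) = true := by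
  decide +kernel

theorem d43 : Nat.beq (trF (P.img P.d code) [3,10,9,9,1,39,34] (code 37)) (code 43) = true := by
  decide +kernel

theorem d44 : Nat.beq (trF (P.img P.d code) [6,5,4] (code 10)) (code 44) = true := by
  decide +kernel

theorem d45 : Nat.beq (trF (P.img P.d code) [44,44,44,44,44] (code 44)) (code 45) = true := by
  decide +kernel

theorem d46 : Nat.beq (trF (P.img P.d code) [3,11,3,4,10,6,11,6,3,8,5,3,1,6,1,4,10,10,5,4,11,7,11] (code 4)) (code 46) = true := by
  decide +kernel

theorem d47 : Nat.beq (trF (P.img P.d code) [46,46] (code 46)) (code 47) = true := by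
  decide +kernel


end Cfsg.H6.Th.M
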