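import Cfsg.Agent.H6.Th.M.D0

set_option autoImplicit false
set_option maxRecDepth 100000
set_option Elab.async false

namespace Cfsg.H6.Th.M

theorem d48 : Nat.beq (trF (P.img P.d code) [8,8,4,7,9,1,7,5,5,6,6,4,6,1,7,3,4,7,7,7,1,5,8,5,4,11,6,11,11] (code 7)) (code 48) = true := by
  decide +kernel

theorem d49 : Nat.beq (trF (P.img P.d code) [5,8,4,5,5,4,7,5,6,10,3,1,5,7,3,3,4,6] (code 48)) (code 49) = true := by
  decide +kernel

theorem d50 : Nat.beq (trF (P.img P.d code) [1,4,8,8,4,8,5,10,1,7,5,8,1,3,3,7,3,1,3,11,5,3,7,9,5,1,6,6,6] (code 5)) (code 50) = true := by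
  decide +kernel


end Cfsg.H6.Th.M
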