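import Cfsg.Agent.H6.Th.M.D0

set_option autoImplicit false
set_option maxRecDepth 100000
set_option Elab.async false

namespace Cfsg.H6.Th.M

theorem d51 : Nat.beq (trF (P.img P.d code) [4,3,1,4,9,4,7,3,10,3,7,10,10,9,10,10,4,3] (code 50)) (code 51) = true := by
  decide +kernel

theorem d52 : Nat.beq (trF (P.img P.d code) [49,51,51,51,51,45] (code 47)) (code 52) = true := by
  decide +kernel

theorem d53 : Nat.beq (trF (P.img P.d code) [5,2,4,3,10,6,7,11,3,4,2,5,11,1,10,5,2,4,3,10,6,52,7,11,3,4,2,5,11] (code 10)) (code 53) = true := by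
  decide +kernel

theorem d54 : Nat.beq (trF (P.img P.d code) [1,10,5,2,4,3,10,6,52,7,11,3,4,2,5,11,1,10,5,2,4,3,10,6,52,7,11,3,4] (code 53)) (code 54) = true := by
  decide +kernel


end Cfsg.H6.Th.M
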