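import Cfsg.Agent.H6.Th.M.D0

set_option autoImplicit false
set_option maxRecDepth 100000
set_option Elab.async false

namespace Cfsg.H6.Th.M

theorem d55 : Nat.beq (trF (P.img P.d code) [2,5,11,1,10,5,2,4,3,10,6,52,7,11,3,4,2,5,11,1,10,5,2,4,3,10,6,52] (code 54)) (code 55) = true := by
  decide +kernel

theorem d56 : Nat.beq (trF (P.img P.d code) [56] (code 55)) P.one = true := by
  decide +kernel

theorem d57 : Nat.beq (trF (P.img P.d code) [8,55] (code 56)) (code 57) = true := by
  decide +kernel

theorem d58 : Nat.beq (trF (P.img P.d code) [3,55] (code 56)) (code 58) = true := by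
  decide +kernel

theorem d59 : Nat.beq (trF (P.img P.d code) [59] (code 58)) P.one = true := by
  decide +kernel

theorem d60 : Nat.beq (trF (P.img P.d code) [6,55] (code 56)) (code 60) = true := by
  decide +kernel

theorem d61 : Nat.beq (trF (P.img P.d code) [61] (code 60)) P.one = true := by
  decide +kernel

theorem d62 : Nat.beq (trF (P.img P.d code) [1,55] (code 56)) (code 62) = true := by
  decide +kernel

theorem d63 : Nat.beq (trF (P.img P.d code) [5,55] (code 56)) (code 63) = true := by
  decide +kernel

theorem d64 : Nat.beq (trF (P.img P.d code) [10,55] (code 56)) (code 64) = true := by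
  decide +kernel

theorem d65 : Nat.beq (trF (P.img P.d code) [4,55] (code 56)) (code 65) = true := by
  decide +kernel

theorem d66 : Nat.beq (trF (P.img P.d code) [66] (code 57)) P.one = true := by
  decide +kernel

theorem d67 : Nat.beq (trF (P.img P.d code) [67] (code 65)) P.one = true := by
  decide +kernel

theorem d68 : Nat.beq (trF (P.img P.d code) [68] (code 64)) P.one = true := by
  decide +kernel

theorem d69 : Nat.beq (trF (P.img P.d code) [69] (code 63)) P.one = true := by
  decide +kernel

theorem d70 : Nat.beq (trF (P.img P.d code) [70] (code 62)) P.one = true := by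
  decide +kernel


end Cfsg.H6.Th.M
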