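import Cfsg.Agent.H6.Th.M.D0

set_option autoImplicit false
set_option maxRecDepth 100000
set_option Elab.async false

namespace Cfsg.H6.Th.M

theorem d71 : Nat.beq (trF (P.img P.d code) [59,61,62,63,64,62,64,61,58,65,60,62,66,67,67,68,69,70,66,58,61,61,63,62,58,65,63,64,66] (code 57)) (code 71) = true := by
  decide +kernel

theorem d72 : Nat.beq (trF (P.img P.d code) [69,62,67,67,57,68,70,60,69,60,59,69,68,60,58,61,68,67] (code 71)) (code 72) = true := by
  decide +kernel

theorem d73 : Nat.beq (trF (P.img P.d code) [73] (code 72)) P.one = true := by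
  decide +kernel

theorem d74 : Nat.beq (trF (P.img P.d code) [74] (code 49)) P.one = true := by
  decide +kernel

theorem d75 : Nat.beq (trF (P.img P.d code) [75] (code 45)) P.one = true := by
  decide +kernel

theorem d76 : Nat.beq (trF (P.img P.d code) [73,49,72,74,72,51,51,45,72,75,51] (code 45)) (code 76) = true := by
  decide +kernel

theorem d77 : Nat.beq (trF (P.img P.d code) [77] (code 51)) P.one = true := by
  decide +kernel

theorem d78 : Nat.beq (trF (P.img P.d code) [75,49,75,49,72,45,77,72,75] (code 73)) (code 78) = true := by
  decide +kernel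


end Cfsg.H6.Th.M
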