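import Cfsg.Agent.H6.Th.M.D0

set_option autoImplicit false
set_option maxRecDepth 100000
set_option Elab.async false

namespace Cfsg.H6.Th.M

theorem d79 : Nat.beq (trF (P.img P.d code) [3,4,1,1,9,10,1,10,6,3,7,4,4,1,1,11,2,1,1,5,2,1,5,5,6,3,7,4,9] (code 11)) (code 79) = true := by
  decide +kernel

theorem d80 : Nat.beq (trF (P.img P.d code) [11,8,5,2,3,9,4,4,7,5,9,1,3,7,5,8,5,9,9,5,7,8,1,3,2,3,2,1,11] (code 79)) (code 80) = true := by
  decide +kernel

theorem d81 : Nat.beq (trF (P.img P.d code) [3,8,1,5,3,3,5,3,9,4,5,5,6,2,1,3,3,7,5,2,5,1,2,3,2] (code 80)) (code 81) = true := by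
  decide +kernel


end Cfsg.H6.Th.M
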