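import Cfsg.Agent.H6.Th.M.D0

set_option autoImplicit false
set_option maxRecDepth 100000
set_option Elab.async false

namespace Cfsg.H6.Th.M

theorem d82 : Nat.beq (trF (P.img P.d code) [5,2,5,5,1,6,1,11,5,3,3,10,3,2,11,9,6,8,7,8,8,8,8,3,4,4,9,11,8] (code 1)) (code 82) = true := by
  decide +kernel

theorem d83 : Nat.beq (trF (P.img P.d code) [5,2,3,9,4,4,7,5,9,1,2,5,3,2,2,4,7,3,1,4,2,5,2,11,2,5,5,11,1] (code 82)) (code 83) = true := by
  decide +kernel

theorem d84 : Nat.beq (trF (P.img P.d code) [10,4,6,2,3,7,1,5,9,5,8,8,10,9,9,1,5,5,10,2,5] (code 83)) (code 84) = true := by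
  decide +kernel


end Cfsg.H6.Th.M
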