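import Cfsg.Agent.H6.Th.M.D0

set_option autoImplicit false
set_option maxRecDepth 100000
set_option Elab.async false

namespace Cfsg.H6.Th.M

theorem d85 : Nat.beq (trF (P.img P.d code) [4,10,1,2,3,10,8,2,7,11,5,6,11,8,6,3,1,1,10,4,3,3,9,2,4,2,9,4,9] (code 2)) (code 85) = true := by
  decide +kernel

theorem d86 : Nat.beq (trF (P.img P.d code) [11,8,5,2,3,9,4,4,7,5,9,6,8,2,5,1,6,2,9,3,4,1,3,6,10,10,4,10,5] (code 85)) (code 86) = true := by
  decide +kernel

theorem d87 : Nat.beq (trF (P.img P.d code) [9,10,1,4,1,4,1,10,10,2,9,3,9,10,2,4,3,10,2,1,1] (code 86)) (code 87) = true := by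
  decide +kernel

theorem d88 : Nat.beq (trF (P.img P.d code) [88] (code 87)) P.one = true := by
  decide +kernel


end Cfsg.H6.Th.M
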