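import Cfsg.Agent.H6.Th.M.B0
import Cfsg.Agent.H6.Th.M.B1
import Cfsg.Agent.H6.Th.M.B2
import Cfsg.Agent.H6.Th.M.B3
import Cfsg.Agent.H6.Th.M.B4
import Cfsg.Agent.H6.Th.M.B5
import Cfsg.Agent.H6.Th.M.B6
import Cfsg.Agent.H6.Th.M.B7
import Cfsg.Agent.H6.Th.M.B8
import Cfsg.Agent.H6.Th.M.B9
import Cfsg.Agent.H6.Th.M.B10
import Cfsg.Agent.H6.Th.M.B11
import Cfsg.Agent.H6.Th.M.B12
import Cfsg.Agent.H6.Th.M.B13
import Cfsg.Agent.H6.Th.M.B14
import Cfsg.Agent.H6.Th.M.B15
import Cfsg.Agent.H6.Th.M.B16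
import Cfsg.Agent.H6.Th.M.B17
import Cfsg.Agent.H6.Th.M.B18
import Cfsg.Agent.H6.Th.Pres

set_option autoImplicit false
set_option maxRecDepth 100000
set_option Elab.async false

namespace Cfsg.H6.Th.M

def sg : List (List ℕ) := [[], [1], [2], [3], [4], [5], [6], [7], [8], [9], [10], [11], [5,1,7,10,4,2], [5,1,7,10,4,2,3], [3,2], [2,1], [5,1,7,10,4,2,8], [8,6], [6,5], [5,4], [5,1,7,10,4,2,10], [1,2], [2,3], [4,5], [2,3,4,5], [4,5,11,4,10]]

theorem ex : Ex (P.mat code) sg 26 :=
  (((((((((((((((Ex.base (m := 12) (by decide +kernel)).step (Par.def_of_chk ok d12) (by decide +kernel)).step (Par.def_of_chk ok d13) (by decide +kernel)).step (Par.def_of_chk ok d14) (by decide +kernel)).step (Par.def_of_chk ok d15) (by decide +kernel)).step (Par.def_of_chk ok d16) (by decide +kernel)).step (Par.def_of_chk ok d17) (by decide +kernel)).step (Par.def_of_chk ok d18) (by decide +kernel)).step (Par.def_of_chk ok d19) (by decide +kernel)).step (Par.def_of_chk ok d20) (by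 decide +kernel)).step (Par.def_of_chk ok d21) (by decide +kernel)).step (Par.def_of_chk ok d22) (by decide +kernel)).step (Par.def_of_chk ok d23) (by decide +kernel)).step (Par.def_of_chk ok d24) (by decide +kernel)).step (Par.def_of_chk ok d25) (by decide +kernel))

def R2 : List (List ℕ) := [[21,21,21], [1,5,1,5], [22,22,22], [2,4,2,4], [2,5,2,5], [1,4,3,4,3,4,3,4,3], [3,5,3,5], [23,23,23], [24,24,24,24,24,24,24,24], [6,6,6,6,6,6,6], [7,1,6,1], [7,2,6,2], [7,3,6,3], [6,4,6,4], [5,7,5,7,7,5,6,6,6], [8,8,8], [9,1,8,1], [9,2,8,2], [9,3,8,3], [9,4,8,4], [9,5,8,5], [9,6,8,7,7], [10,10,3,1], [11,1,10,1], [11,3,10,3], [11,5,10,5], [25,25], [11,2,3,1,2,10,2,1,3,2,5], [4,11,4,2,3,1,2,4,10,4,2,1,3,2,3,5,4,11,4,2,3,1,2,5,11], [11,8,10,8], [5,7,7,11,6,6,5,7,7,10,6,6], [1,3,7,11,7,11,7,11], [1,3,7,11,6,10,7,11,6,10,7,11,6,10,7,11,6,10], [4,7,7,10,6,6,4,7,7,10,6,6,4,7,7,10,6,6,4,7,7,10,5,4,3,4,5,6,6,6,5,4,3,4,5,7,4,3,4,3,1], [1,1], [2,2], [3,3], [4,4], [5,5], [6,7], [8,9],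 [10,11]]

theorem ones : ∀ r ∈ R2, mpr (P.mat code) r = 1 :=
  (List.forall_mem_cons.mpr ⟨Par.one_of_chk ok (by decide) r0, (List.forall_mem_cons.mpr ⟨Par.one_of_chk ok (by decide) r1, (List.forall_mem_cons.mpr ⟨Par.one_of_chk ok (by decide) r2, (List.forall_mem_cons.mpr ⟨Par.one_of_chk ok (by decide) r3, (List.forall_mem_cons.mpr ⟨Par.one_of_chk ok (by decide) r4, (List.forall_mem_cons.mpr ⟨Par.one_of_chk ok (by decide) r5, (List.forall_mem_cons.mpr ⟨Par.one_of_chk ok (by decide) r6, (List.forall_mem_cons.mpr ⟨Par.one_of_chk ok (by decide) r7, (List.forall_mem_cons.mpr ⟨Par.one_of_chk ok (by decide) r8, (List.forall_mem_cons.mpr ⟨Par.one_of_chk ok (by decide) r9, (List.forall_mem_cons.mpr ⟨Par.one_of_chk ok (by decide) r10, (List.forall_mem_cons.mpr ⟨Par.one_of_chk ok (by decide) r11, (List.forall_mem_cons.mpr ⟨Par.one_of_chk ok (by decide) r12, (List.forall_mem_cons.mpr ⟨Par.one_of_chk ok (by decide) r13, (List.forall_mem_cons.mpr ⟨Par.one_of_chk ok (by decide)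 r14, (List.forall_mem_cons.mpr ⟨Par.one_of_chk ok (by decide) r15, (List.forall_mem_cons.mpr ⟨Par.one_of_chk ok (by decide) r16, (List.forall_mem_cons.mpr ⟨Par.one_of_chk ok (by decide) r17, (List.forall_mem_cons.mpr ⟨Par.one_of_chk ok (by decide) r18, (List.forall_mem_cons.mpr ⟨Par.one_of_chk ok (by decide) r19, (List.forall_mem_cons.mpr ⟨Par.one_of_chk ok (by decide) r20, (List.forall_mem_cons.mpr ⟨Par.one_of_chk ok (by decide) r21, (List.forall_mem_cons.mpr ⟨Par.one_of_chk ok (by decide) r22, (List.forall_mem_cons.mpr ⟨Par.one_of_chk ok (by decide) r23, (List.forall_mem_cons.mpr ⟨Par.one_of_chk ok (by decide) r24, (List.forall_mem_cons.mpr ⟨Par.one_of_chk ok (by decide) r25, (List.forall_mem_cons.mpr ⟨Par.one_of_chk ok (by decide) r26, (List.forall_mem_cons.mpr ⟨Par.one_of_chk ok (by decide) r27, (List.forall_mem_cons.mpr ⟨Par.one_of_chk ok (by decide) r28, (List.forall_mem_cons.mpr ⟨Par.one_of_chk ok (by decide) r29, (List.forall_mem_cons.mpr ⟨Par.one_of_chk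 ok (by decide) r30, (List.forall_mem_cons.mpr ⟨Par.one_of_chk ok (by decide) r31, (List.forall_mem_cons.mpr ⟨Par.one_of_chk ok (by decide) r32, (List.forall_mem_cons.mpr ⟨Par.one_of_chk ok (by decide) r33, (List.forall_mem_cons.mpr ⟨Par.one_of_chk ok (by decide) r34, (List.forall_mem_cons.mpr ⟨Par.one_of_chk ok (by decide) r35, (List.forall_mem_cons.mpr ⟨Par.one_of_chk ok (by decide) r36, (List.forall_mem_cons.mpr ⟨Par.one_of_chk ok (by decide) r37, (List.forall_mem_cons.mpr ⟨Par.one_of_chk ok (by decide) r38, (List.forall_mem_cons.mpr ⟨Par.one_of_chk ok (by decide) r39, (List.forall_mem_cons.mpr ⟨Par.one_of_chk ok (by decide) r40, (List.forall_mem_cons.mpr ⟨Par.one_of_chk ok (by decide) r41, (by simp)⟩)⟩)⟩)⟩)⟩)⟩)⟩)⟩)⟩)⟩)⟩)⟩)⟩)⟩)⟩)⟩)⟩)⟩)⟩)⟩)⟩)⟩)⟩)⟩)⟩)⟩)⟩)⟩)⟩)⟩)⟩)⟩)⟩)⟩)⟩)⟩)⟩)⟩)⟩)⟩)⟩)⟩)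

abbrev Mx : Type := Matrix (Fin P.d) (Fin P.d) (ZMod P.q)

theorem rep : ∃ μ : Spor.Th →* Mx, ∀ x, 1 ≤ x → x < 12 → μ (Th.ev x) = P.mat code x := by
  obtain ⟨h1, h2, h3⟩ := mrep_sound (m0 := 12) (inv := 3108186227616092632570265856) (R := Th.R) ex ones (by decide +kernel)
  obtain ⟨ρ, hρ⟩ := Th.lift h1 h2
  exact ⟨(Units.coeHom _).comp ρ, fun x a b => by rw [MonoidHom.comp_apply, hρ, h3 x a b]⟩

/-- The representation. -/
noncomputable def μ : Spor.Th →* Mx := rep.choose

theorem hμ : ∀ x, 1 ≤ x → x < 12 → μ (Th.ev x) = P.mat code x := rep.choose_spec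

theorem m12 : Mem μ (P.mat code) 12 := Mem.base hμ

theorem m13 : Mem μ (P.mat code) 13 := m12.step (Par.def_of_chk ok d12) (by decide +kernel)

theorem m14 : Mem μ (P.mat code) 14 := m13.step (Par.def_of_chk ok d13) (by decide +kernel)

theorem m15 : Mem μ (P.mat code) 15 := m14.step (Par.def_of_chk ok d14) (by decide +kernel)

theorem m16 : Mem μ (P.mat code) 16 := m15.step (Par.def_of_chk ok d15) (by decide +kernel)

theorem m17 : Mem μ (P.mat code) 17 := m16.step (Par.def_of_chk ok d16) (by decide +kernel)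

theorem m18 : Mem μ (P.mat code) 18 := m17.step (Par.def_of_chk ok d17) (by decide +kernel)

theorem m19 : Mem μ (P.mat code) 19 := m18.step (Par.def_of_chk ok d18) (by decide +kernel)

theorem m20 : Mem μ (P.mat code) 20 := m19.step (Par.def_of_chk ok d19) (by decide +kernel)

theorem m21 : Mem μ (P.mat code) 21 := m20.step (Par.def_of_chk ok d20) (by decide +kernel)

theorem m22 : Mem μ (P.mat code) 22 := m21.step (Par.def_of_chk ok d21) (by decide +kernel)

theorem m23 : Mem μ (P.mat code) 23 := m22.step (Par.def_of_chk ok d22) (by decide +kernel)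

theorem m24 : Mem μ (P.mat code) 24 := m23.step (Par.def_of_chk ok d23) (by decide +kernel)

theorem m25 : Mem μ (P.mat code) 25 := m24.step (Par.def_of_chk ok d24) (by decide +kernel)

theorem m26 : Mem μ (P.mat code) 26 := m25.step (Par.def_of_chk ok d25) (by decide +kernel)

theorem m27 : Mem μ (P.mat code) 27 := m26.step (Par.def_of_chk ok d26) (by decide +kernel)

theorem m28 : Mem μ (P.mat code) 28 := m27.step (Par.def_of_chk ok d27) (by decide +kernel)

theorem m29 : Mem μ (P.mat code) 29 := m28.step (Par.def_of_chk ok d28) (by decide +kernel)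

theorem m30 : Mem μ (P.mat code) 30 := m29.step (Par.def_of_chk ok d29) (by decide +kernel)

theorem m31 : Mem μ (P.mat code) 31 := m30.inv (Par.one_of_chk ok (by decide) d30) (by decide +kernel)

theorem m32 : Mem μ (P.mat code) 32 := m31.step (Par.def_of_chk ok d31) (by decide +kernel)

theorem m33 : Mem μ (P.mat code) 33 := m32.inv (Par.one_of_chk ok (by decide) d32) (by decide +kernel)

theorem m34 : Mem μ (P.mat code) 34 := m33.step (Par.def_of_chk ok d33) (by decide +kernel)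

theorem m35 : Mem μ (P.mat code) 35 := m34.step (Par.def_of_chk ok d34) (by decide +kernel)

theorem m36 : Mem μ (P.mat code) 36 := m35.inv (Par.one_of_chk ok (by decide) d35) (by decide +kernel)

theorem m37 : Mem μ (P.mat code) 37 := m36.step (Par.def_of_chk ok d36) (by decide +kernel)

theorem m38 : Mem μ (P.mat code) 38 := m37.inv (Par.one_of_chk ok (by decide) d37) (by decide +kernel)

theorem m39 : Mem μ (P.mat code) 39 := m38.step (Par.def_of_chk ok d38) (by decide +kernel)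

theorem m40 : Mem μ (P.mat code) 40 := m39.step (Par.def_of_chk ok d39) (by decide +kernel)

theorem m41 : Mem μ (P.mat code) 41 := m40.inv (Par.one_of_chk ok (by decide) d40) (by decide +kernel)

theorem m42 : Mem μ (P.mat code) 42 := m41.step (Par.def_of_chk ok d41) (by decide +kernel)

theorem m43 : Mem μ (P.mat code) 43 := m42.step (Par.def_of_chk ok d42) (by decide +kernel)

theorem m44 : Mem μ (P.mat code) 44 := m43.step (Par.def_of_chk ok d43) (by decide +kernel)

theorem m45 : Mem μ (P.mat code) 45 := m44.step (Par.def_of_chk ok d44) (by decide +kernel)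

theorem m46 : Mem μ (P.mat code) 46 := m45.step (Par.def_of_chk ok d45) (by decide +kernel)

theorem m47 : Mem μ (P.mat code) 47 := m46.step (Par.def_of_chk ok d46) (by decide +kernel)

theorem m48 : Mem μ (P.mat code) 48 := m47.step (Par.def_of_chk ok d47) (by decide +kernel)

theorem m49 : Mem μ (P.mat code) 49 := m48.step (Par.def_of_chk ok d48) (by decide +kernel)

theorem m50 : Mem μ (P.mat code) 50 := m49.step (Par.def_of_chk ok d49) (by decide +kernel)

theorem m51 : Mem μ (P.mat code) 51 := m50.step (Par.def_of_chk ok d50) (by decide +kernel)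

theorem m52 : Mem μ (P.mat code) 52 := m51.step (Par.def_of_chk ok d51) (by decide +kernel)

theorem m53 : Mem μ (P.mat code) 53 := m52.step (Par.def_of_chk ok d52) (by decide +kernel)

theorem m54 : Mem μ (P.mat code) 54 := m53.step (Par.def_of_chk ok d53) (by decide +kernel)

theorem m55 : Mem μ (P.mat code) 55 := m54.step (Par.def_of_chk ok d54) (by decide +kernel)

theorem m56 : Mem μ (P.mat code) 56 := m55.step (Par.def_of_chk ok d55) (by decide +kernel)

theorem m57 : Mem μ (P.mat code) 57 := m56.inv (Par.one_of_chk ok (by decide) d56) (by decide +kernel)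

theorem m58 : Mem μ (P.mat code) 58 := m57.step (Par.def_of_chk ok d57) (by decide +kernel)

theorem m59 : Mem μ (P.mat code) 59 := m58.step (Par.def_of_chk ok d58) (by decide +kernel)

theorem m60 : Mem μ (P.mat code) 60 := m59.inv (Par.one_of_chk ok (by decide) d59) (by decide +kernel)

theorem m61 : Mem μ (P.mat code) 61 := m60.step (Par.def_of_chk ok d60) (by decide +kernel)

theorem m62 : Mem μ (P.mat code) 62 := m61.inv (Par.one_of_chk ok (by decide) d61) (by decide +kernel)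

theorem m63 : Mem μ (P.mat code) 63 := m62.step (Par.def_of_chk ok d62) (by decide +kernel)

theorem m64 : Mem μ (P.mat code) 64 := m63.step (Par.def_of_chk ok d63) (by decide +kernel)

theorem m65 : Mem μ (P.mat code) 65 := m64.step (Par.def_of_chk ok d64) (by decide +kernel)

theorem m66 : Mem μ (P.mat code) 66 := m65.step (Par.def_of_chk ok d65) (by decide +kernel)

theorem m67 : Mem μ (P.mat code) 67 := m66.inv (Par.one_of_chk ok (by decide) d66) (by decide +kernel)

theorem m68 : Mem μ (P.mat code) 68 := m67.inv (Par.one_of_chk ok (by decide) d67) (by decide +kernel)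

theorem m69 : Mem μ (P.mat code) 69 := m68.inv (Par.one_of_chk ok (by decide) d68) (by decide +kernel)

theorem m70 : Mem μ (P.mat code) 70 := m69.inv (Par.one_of_chk ok (by decide) d69) (by decide +kernel)

theorem m71 : Mem μ (P.mat code) 71 := m70.inv (Par.one_of_chk ok (by decide) d70) (by decide +kernel)

theorem m72 : Mem μ (P.mat code) 72 := m71.step (Par.def_of_chk ok d71) (by decide +kernel)

theorem m73 : Mem μ (P.mat code) 73 := m72.step (Par.def_of_chk ok d72) (by decide +kernel)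

theorem m74 : Mem μ (P.mat code) 74 := m73.inv (Par.one_of_chk ok (by decide) d73) (by decide +kernel)

theorem m75 : Mem μ (P.mat code) 75 := m74.inv (Par.one_of_chk ok (by decide) d74) (by decide +kernel)

theorem m76 : Mem μ (P.mat code) 76 := m75.inv (Par.one_of_chk ok (by decide) d75) (by decide +kernel)

theorem m77 : Mem μ (P.mat code) 77 := m76.step (Par.def_of_chk ok d76) (by decide +kernel)

theorem m78 : Mem μ (P.mat code) 78 := m77.inv (Par.one_of_chk ok (by decide) d77) (by decide +kernel)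

theorem m79 : Mem μ (P.mat code) 79 := m78.step (Par.def_of_chk ok d78) (by decide +kernel)

theorem m80 : Mem μ (P.mat code) 80 := m79.step (Par.def_of_chk ok d79) (by decide +kernel)

theorem m81 : Mem μ (P.mat code) 81 := m80.step (Par.def_of_chk ok d80) (by decide +kernel)

theorem m82 : Mem μ (P.mat code) 82 := m81.step (Par.def_of_chk ok d81) (by decide +kernel)

theorem m83 : Mem μ (P.mat code) 83 := m82.step (Par.def_of_chk ok d82) (by decide +kernel)

theorem m84 : Mem μ (P.mat code) 84 := m83.step (Par.def_of_chk ok d83) (by decide +kernel)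

theorem m85 : Mem μ (P.mat code) 85 := m84.step (Par.def_of_chk ok d84) (by decide +kernel)

theorem m86 : Mem μ (P.mat code) 86 := m85.step (Par.def_of_chk ok d85) (by decide +kernel)

theorem m87 : Mem μ (P.mat code) 87 := m86.step (Par.def_of_chk ok d86) (by decide +kernel)

theorem m88 : Mem μ (P.mat code) 88 := m87.step (Par.def_of_chk ok d87) (by decide +kernel)

theorem m89 : Mem μ (P.mat code) 89 := m88.inv (Par.one_of_chk ok (by decide) d88) (by decide +kernel)

theorem m90 : Mem μ (P.mat code) 90 := m89.step (Par.def_of_chk ok d89) (by decide +kernel)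

theorem m91 : Mem μ (P.mat code) 91 := m90.step (Par.def_of_chk ok d90) (by decide +kernel)

theorem m92 : Mem μ (P.mat code) 92 := m91.step (Par.def_of_chk ok d91) (by decide +kernel)

theorem m93 : Mem μ (P.mat code) 93 := m92.inv (Par.one_of_chk ok (by decide) d92) (by decide +kernel)

theorem m94 : Mem μ (P.mat code) 94 := m93.inv (Par.one_of_chk ok (by decide) d93) (by decide +kernel)

theorem m95 : Mem μ (P.mat code) 95 := m94.step (Par.def_of_chk ok d94) (by decide +kernel)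

theorem m96 : Mem μ (P.mat code) 96 := m95.inv (Par.one_of_chk ok (by decide) d95) (by decide +kernel)

theorem m97 : Mem μ (P.mat code) 97 := m96.step (Par.def_of_chk ok d96) (by decide +kernel)

theorem m98 : Mem μ (P.mat code) 98 := m97.inv (Par.one_of_chk ok (by decide) d97) (by decide +kernel)

theorem m99 : Mem μ (P.mat code) 99 := m98.step (Par.def_of_chk ok d98) (by decide +kernel)

theorem m100 : Mem μ (P.mat code) 100 := m99.inv (Par.one_of_chk ok (by decide) d99) (by decide +kernel)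

theorem m101 : Mem μ (P.mat code) 101 := m100.step (Par.def_of_chk ok d100) (by decide +kernel)

theorem m102 : Mem μ (P.mat code) 102 := m101.step (Par.def_of_chk ok d101) (by decide +kernel)

theorem mem : Mem (kq μ) (P.mat code) 102 := m102.kq

theorem lab13 : Lab (rAct (kq μ) (Fin 1)) (fun x => ev2 (kq μ) (P.mat code) (nthN [0,27] x)) (fun p => P.dec 1 (g13 p)) tab13 13 2 :=
  Par.lab ok mem (by decide +kernel) (allR_range l13_0 (by norm_num : 0 + 13 = 13))

theorem dv13 : 13 ∣ Nat.card (Spor.Th ⧸ μ.ker) :=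
  Dvd.dvd.trans (Dvd.dvd.trans (by decide +kernel) (lab13.dvd v13_0 (one_dvd _))) (Subgroup.card_subgroup_dvd_card _)

theorem lab19 : Lab (rAct (kq μ) (Fin 1)) (fun x => ev2 (kq μ) (P.mat code) (nthN [0,28] x)) (fun p => P.dec 1 (g19 p)) tab19 19 2 :=
  Par.lab ok mem (by decide +kernel) (allR_range l19_0 (by norm_num : 0 + 19 = 19))

theorem dv19 : 19 ∣ Nat.card (Spor.Th ⧸ μ.ker) :=
  Dvd.dvd.trans (Dvd.dvd.trans (by decide +kernel) (lab19.dvd v19_0 (one_dvd _))) (Subgroup.card_subgroup_dvd_card _)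

theorem lab31 : Lab (rAct (kq μ) (Fin 1)) (fun x => ev2 (kq μ) (P.mat code) (nthN [0,12] x)) (fun p => P.dec 1 (g31 p)) tab31 31 2 :=
  Par.lab ok mem (by decide +kernel) (allR_range l31_0 (by norm_num : 0 + 31 = 31))

theorem dv31 : 31 ∣ Nat.card (Spor.Th ⧸ μ.ker) :=
  Dvd.dvd.trans (Dvd.dvd.trans (by decide +kernel) (lab31.dvd v31_0 (one_dvd _))) (Subgroup.card_subgroup_dvd_card _)

theorem lab7 : Lab (rAct (kq μ) (Fin 1)) (fun x => ev2 (kq μ) (P.mat code) (nthN [0,6,33] x)) (fun p => P.dec 1 (g7 p)) tab7 14 3 :=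
  Par.lab ok mem (by decide +kernel) (allR_range l7_0 (by norm_num : 0 + 14 = 14))

theorem dv7 : 49 ∣ Nat.card (Spor.Th ⧸ μ.ker) :=
  Dvd.dvd.trans (Dvd.dvd.trans (by decide +kernel) (lab7.dvd v7_0 (lab7.dvd v7_1 (one_dvd _)))) (Subgroup.card_subgroup_dvd_card _)

theorem lab2 : Lab (rAct (kq μ) (Fin 1)) (fun x => ev2 (kq μ) (P.mat code) (nthN [0,38,41,42,43] x)) (fun p => P.dec 1 (g2 p)) tab2 684 5 :=
  Par.lab ok mem (by decide +kernel) (range_join (range_join (allR_range l2_0 (by norm_num : 0 + 100 = 100)) (range_join (allR_range l2_1 (by norm_num : 100 + 100 = 200)) (allR_range l2_2 (by norm_num : 200 + 100 = 300)))) (range_join (range_join (allR_range l2_3 (by norm_num : 300 + 100 = 400)) (allR_range l2_4 (by norm_num : 400 + 100 = 500))) (range_join (allR_range l2_5 (by norm_num : 500 + 100 = 600)) (allR_range l2_6 (by norm_num : 600 + 84 = 684)))))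

theorem dv2 : 32768 ∣ Nat.card (Spor.Th ⧸ μ.ker) :=
  Dvd.dvd.trans (Dvd.dvd.trans (by decide +kernel) (lab2.dvd v2_0 (lab2.dvd v2_1 (lab2.dvd v2_2 (lab2.dvd v2_3 (lab2.dvd v2_4 (lab2.dvd v2_5 (lab2.dvd v2_6 (lab2.dvd v2_7 (lab2.dvd v2_8 (lab2.dvd v2_9 (lab2.dvd v2_10 (lab2.dvd v2_11 (lab2.dvd v2_12 (one_dvd _))))))))))))))) (Subgroup.card_subgroup_dvd_card _)

theorem lab5 : Lab (rAct (kq μ) (Fin 1)) (fun x => ev2 (kq μ) (P.mat code) (nthN [0,76,78] x)) (fun p => P.dec 1 (g5 p)) tab5 35 3 :=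
  Par.lab ok mem (by decide +kernel) (allR_range l5_0 (by norm_num : 0 + 35 = 35))

theorem dv5 : 125 ∣ Nat.card (Spor.Th ⧸ μ.ker) :=
  Dvd.dvd.trans (Dvd.dvd.trans (by decide +kernel) (lab5.dvd v5_0 (lab5.dvd v5_1 (lab5.dvd v5_2 (one_dvd _))))) (Subgroup.card_subgroup_dvd_card _)

theorem lab3 : Lab (rAct (kq μ) (Fin 1)) (fun x => ev2 (kq μ) (P.mat code) (nthN [0,96,100,101] x)) (fun p => P.dec 1 (g3 p)) tab3 291 4 :=
  Par.lab ok mem (by decide +kernel) (range_join (allR_range l3_0 (by norm_num : 0 + 133 = 133)) (range_join (allR_range l3_1 (by norm_num : 133 + 133 = 266)) (allR_range l3_2 (by norm_num : 266 + 25 = 291))))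

theorem dv3 : 59049 ∣ Nat.card (Spor.Th ⧸ μ.ker) :=
  Dvd.dvd.trans (Dvd.dvd.trans (by decide +kernel) (lab3.dvd v3_0 (lab3.dvd v3_1 (lab3.dvd v3_2 (lab3.dvd v3_3 (lab3.dvd v3_4 (lab3.dvd v3_5 (lab3.dvd v3_6 (lab3.dvd v3_7 (lab3.dvd v3_8 (one_dvd _))))))))))) (Subgroup.card_subgroup_dvd_card _)

theorem powx (hi : Function.Injective μ) : evL Th.ev [5,1,7,10,4,2] ^ 31 = 1 :=
  ex.pow hμ hi (a := 12) (Par.one_of_chk ok (by decide) px) (by decide +kernel)

theorem kill (hi : Function.Injective μ) (N : Subgroup Spor.Th) [N.Normal] (h : evL Th.ev [5,1,7,10,4,2] ∈ N) :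
    ∀ t ∈ Th.X, evL Th.ev t ∈ N := by
  have h0 := ex.kil Th.hev hμ hi h [] [3] (a := 13) (k := 19) (b := 3) (o := 2)
    (Par.one_of_chk ok (by decide) pa0) (Par.one_of_chk ok (by decide) pb0) (by decide +kernel)
  have h1 := ex.kil Th.hev hμ hi h0 [] [2] (a := 14) (k := 3) (b := 2) (o := 2)
    (Par.one_of_chk ok (by decide) pa1) (Par.one_of_chk ok (by decide) pb1) (by decide +kernel)
  have h2 := ex.kil Th.hev hμ hi h1 [] [1] (a := 15) (k := 3) (b := 1) (o := 2)
    (Par.one_of_chk ok (by decide) pa2) (Par.one_of_chk ok (by decide) pb2) (by decide +kernel)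
  have h3 := ex.kil Th.hev hμ hi h [] [8] (a := 16) (k := 19) (b := 8) (o := 3)
    (Par.one_of_chk ok (by decide) pa3) (Par.one_of_chk ok (by decide) pb3) (by decide +kernel)
  have h4 := ex.kil Th.hev hμ hi h3 [] [6] (a := 17) (k := 3) (b := 6) (o := 7)
    (Par.one_of_chk ok (by decide) pa4) (Par.one_of_chk ok (by decide) pb4) (by decide +kernel)
  have h5 := ex.kil Th.hev hμ hi h4 [] [5] (a := 18) (k := 7) (b := 5) (o := 2)
    (Par.one_of_chk ok (by decide) pa5) (Par.one_of_chk ok (by decide) pb5) (by decide +kernel)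
  have h6 := ex.kil Th.hev hμ hi h5 [] [4] (a := 19) (k := 3) (b := 4) (o := 2)
    (Par.one_of_chk ok (by decide) pa6) (Par.one_of_chk ok (by decide) pb6) (by decide +kernel)
  have h7 := ex.kil Th.hev hμ hi h [] [10] (a := 20) (k := 19) (b := 10) (o := 4)
    (Par.one_of_chk ok (by decide) pa7) (Par.one_of_chk ok (by decide) pb7) (by decide +kernel)
  exact (List.forall_mem_cons.mpr ⟨h2, (List.forall_mem_cons.mpr ⟨h1, (List.forall_mem_cons.mpr ⟨h0, (List.forall_mem_cons.mpr ⟨h6, (List.forall_mem_cons.mpr ⟨h5, (List.forall_mem_cons.mpr ⟨h4, (List.forall_mem_cons.mpr ⟨h3, (List.forall_mem_cons.mpr ⟨h7, (by simp)⟩)⟩)⟩)⟩)⟩)⟩)⟩)⟩)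

theorem dv : 90745943887872000 ∣ Nat.card (Spor.Th ⧸ μ.ker) :=
  Dvd.dvd.trans (by decide +kernel) (Nat.lcm_dvd dv2 (Nat.lcm_dvd dv3 (Nat.lcm_dvd dv5 (Nat.lcm_dvd dv7 (Nat.lcm_dvd dv13 (Nat.lcm_dvd dv19 dv31))))))


end Cfsg.H6.Th.M
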